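import Groth.Agent.S0007
import Groth.Agent.Lib.Helper1.HHTools
import Groth.Agent.Lib.Helper45.ModulesExact
import Groth.Agent.Lib.Helper49.FiniteTypeAffine

/-!
# Exactness of sections over affine opens for quasi-coherent kernels (helper16)

For a short exact sequence `0 → F' → F → F'' → 0` of `O_X`-modules with `F'` quasi-coherent and
an affine open `U`, the sequence of `Γ(X, U)`-modules of sections over `U` is short exact.
-/

set_option autoImplicit false
universe u

namespace Groth.Agent.Lib.Helper16

namespace LFRes

open AlgebraicGeometry CategoryTheory CategoryTheory.Limits Groth.Agent.Lib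

variable {X : Scheme.{u}}

/-- compatibility of `sectionsFromSpecTopEquiv` with morphisms of modules -/
lemma sectionsFromSpecTopEquiv_naturality {U : X.Opens} (hU : IsAffineOpen U) {F G : X.Modules}
    (φ : F ⟶ G) (m : Γ(F.restrict hU.fromSpec, (⊤ : (Spec Γ(X, U)).Opens))) :
    φ.app U (Helper49.sectionsFromSpecTopEquiv hU F m) =
      Helper49.sectionsFromSpecTopEquiv hU G
        (((Scheme.Modules.restrictFunctor hU.fromSpec).map φ).app ⊤ m) := by
  have h := congrArg (fun g => g.hom m)
    (φ.mapPresheaf.naturality (eqToHom (Helper49.fromSpec_image_top hU).symm).op)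
  exact h

/-- surjectivity on sections over an affine open when the kernel is quasi-coherent -/
theorem app_surjective_of_shortExact (S : ShortComplex X.Modules) (hS : S.ShortExact)
    (h1 : S.X₁.IsQuasicoherent) {U : X.Opens} (hU : IsAffineOpen U) :
    Function.Surjective (S.g.app U) := by
  intro t
  have hS' : (S.map (Scheme.Modules.restrictFunctor hU.fromSpec)).ShortExact :=
    hS.map_of_exact _
  have e1 : (S.X₁.restrict hU.fromSpec).IsQuasicoherent :=
    Scheme.Modules.isQuasicoherent_restrictFunctor _ _
  have hH : Subsingleton (Coh.HH (Spec Γ(X, U)) (S.X₁.restrict hU.fromSpec) 1) :=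
    Groth.Agent.S0007.result (Spec Γ(X, U)) (S.X₁.restrict hU.fromSpec) 1 one_pos
  obtain ⟨s, hs⟩ := Helper1.exists_lift_sections_of_subsingleton_HH_one hS' hH
    ((Helper49.sectionsFromSpecTopEquiv hU S.X₃).symm t)
  refine ⟨Helper49.sectionsFromSpecTopEquiv hU S.X₂ s, ?_⟩
  rw [sectionsFromSpecTopEquiv_naturality hU S.g s]
  have : ((Scheme.Modules.restrictFunctor hU.fromSpec).map S.g).app ⊤ s =
      (Helper49.sectionsFromSpecTopEquiv hU S.X₃).symm t := hs
  rw [this, LinearEquiv.apply_symm_apply]

/-- the short complex of sections over `U` -/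
noncomputable def sectionsSC (S : ShortComplex X.Modules) (U : X.Opens) :
    ShortComplex (ModuleCat.{u} Γ(X, U)) :=
  ShortComplex.mk (ModuleCat.ofHom (Helper45.appₗ S.f U)) (ModuleCat.ofHom (Helper45.appₗ S.g U))
    (by
      ext m
      have := congrArg (fun g => g.app U m) S.zero
      exact this)

theorem sectionsSC_shortExact (S : ShortComplex X.Modules) (hS : S.ShortExact)
    (h1 : S.X₁.IsQuasicoherent) {U : X.Opens} (hU : IsAffineOpen U) :
    (sectionsSC S U).ShortExact := by
  have := hS.mono_f
  refine ModuleCat.shortComplex_shortExact _ ?_ ?_ ?_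
  · exact Helper45.app_exact_of_shortExact S hS U
  · exact Helper45.app_injective_of_mono S.f U
  · exact app_surjective_of_shortExact S hS h1 hU

end LFRes

end Groth.Agent.Lib.Helper16
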