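import Groth.Agent.Lib.Helper16.LFRes.Sections
import Groth.Agent.Lib.Helper16.CohThick.Basic
import Groth.Agent.Lib.Helper16.ResK0.Tower
import Groth.Agent.Lib.Helper49.FinLocFreeSections
import Groth.Agent.Lib.Helper49.FibreRank
import Groth.Prelude.Def_KRR

/-!
# Finite locally free modules inside coherent modules: closure properties (helper16)

On a locally Noetherian scheme with enough locally free modules, the pair
(`finite locally free` ≤ `coherent`) satisfies the hypotheses `ResK0.Hyp`.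
Projective dimension of sections over affine opens (`PdLT`) and dimension shifting.
-/

set_option autoImplicit false
set_option linter.unusedSectionVars false
universe u

namespace Groth.Agent.Lib.Helper16

namespace LFRes

open AlgebraicGeometry CategoryTheory CategoryTheory.Limits Groth.Agent.Lib ResK0 CohThick

variable {X : Scheme.{u}}

/-- sections over `U`, as an object of `ModuleCat Γ(X, U)` -/
noncomputable abbrev secObj (M : X.Modules) (U : X.Opens) : ModuleCat.{u} Γ(X, U) :=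
  ModuleCat.of Γ(X, U) Γ(M, U)

/-- the sections of `M` over `U` have projective dimension `< n` -/
def PdLT (M : X.Modules) (n : ℕ) (U : X.Opens) : Prop :=
  HasProjectiveDimensionLT (secObj M U) n

lemma PdLT.mono {M : X.Modules} {n m : ℕ} {U : X.Opens} (h : PdLT M n U) (hnm : n ≤ m) :
    PdLT M m U := by
  unfold PdLT at h ⊢
  exact hasProjectiveDimensionLT_of_ge _ n m hnm

section SES

variable {S : ShortComplex X.Modules} (hS : S.ShortExact) (h1 : S.X₁.IsQuasicoherent)
  {U : X.Opens} (hU : IsAffineOpen U)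

include hS h1 hU

lemma pdLT_X₂ (n : ℕ) (h₁ : PdLT S.X₁ n U) (h₃ : PdLT S.X₃ n U) : PdLT S.X₂ n U :=
  (sectionsSC_shortExact S hS h1 hU).hasProjectiveDimensionLT_X₂ n h₁ h₃

lemma pdLT_X₁ (n : ℕ) (h₂ : PdLT S.X₂ n U) (h₃ : PdLT S.X₃ (n + 1) U) : PdLT S.X₁ n U :=
  (sectionsSC_shortExact S hS h1 hU).hasProjectiveDimensionLT_X₁ n h₂ h₃

lemma pdLT_X₃ (n : ℕ) (h₁ : PdLT S.X₁ n U) (h₂ : PdLT S.X₂ (n + 1) U) : PdLT S.X₃ (n + 1) U :=
  (sectionsSC_shortExact S hS h1 hU).hasProjectiveDimensionLT_X₃ n h₁ h₂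

end SES

lemma isCoh_of_isFinLocFree {M : X.Modules} (h : FlatMod.IsFinLocFree M) : Coh.IsCoh M :=
  ⟨Helper49.isQuasicoherent_of_isFinLocFree M h, Helper49.isFiniteType_of_isFinLocFree M h⟩

lemma projective_secObj_iff (M : X.Modules) (U : X.Opens) :
    Module.Projective Γ(X, U) Γ(M, U) ↔ PdLT M 1 U := by
  unfold PdLT
  rw [← projective_iff_hasProjectiveDimensionLT_one]
  exact IsProjective.iff_projective (R := Γ(X, U)) (P := Γ(M, U))

lemma pdLT_one_of_isFinLocFree {M : X.Modules} (h : FlatMod.IsFinLocFree M) {U : X.Opens}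
    (hU : IsAffineOpen U) : PdLT M 1 U :=
  (projective_secObj_iff M U).1 (Helper49.finite_projective_sections_of_isFinLocFree M h hU).2

/-- a coherent module whose sections over the members of an affine open cover are projective is
finite locally free -/
lemma isFinLocFree_of_pdLT_one {M : X.Modules} (hM : Coh.IsCoh M)
    (h : ∀ x : X, ∃ U : X.Opens, IsAffineOpen U ∧ x ∈ U ∧ PdLT M 1 U) :
    FlatMod.IsFinLocFree M := by
  have := hM.1
  refine Helper49.isFinLocFree_of_finite_projective_cover M fun x => ?_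
  obtain ⟨U, hU, hxU, hp⟩ := h x
  exact ⟨U, hU, hxU, Helper49.finite_sections_of_isFiniteType M hM.2 hU,
    (projective_secObj_iff M U).2 hp⟩

lemma isCoh_of_ses_ext {A' A A'' : X.Modules} (hs : SES A' A A'') (h' : Coh.IsCoh A')
    (h'' : Coh.IsCoh A'') : Coh.IsCoh A := by
  obtain ⟨i, p, w, hS⟩ := hs
  exact isCoh_of_extension (ShortComplex.mk i p w) hS h' h''

lemma isCoh_of_ses_ker [IsLocallyNoetherian X] {K L A : X.Modules} (hs : SES K L A)
    (hL : Coh.IsCoh L) (hA : Coh.IsCoh A) : Coh.IsCoh K := by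
  obtain ⟨i, p, w, hS⟩ := hs
  have h := (cohP X).prop_kernel p hL hA
  exact isCoh_of_iso (IsLimit.conePointUniqueUpToIso (kernelIsKernel p) hS.fIsKernel) h

lemma isFinLocFree_of_ses_ext {A' A A'' : X.Modules} (hs : SES A' A A'')
    (h' : FlatMod.IsFinLocFree A') (h'' : FlatMod.IsFinLocFree A'') : FlatMod.IsFinLocFree A := by
  have hA : Coh.IsCoh A := isCoh_of_ses_ext hs (isCoh_of_isFinLocFree h') (isCoh_of_isFinLocFree h'')
  obtain ⟨i, p, w, hS⟩ := hs
  refine isFinLocFree_of_pdLT_one hA fun x => ?_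
  obtain ⟨_, ⟨W, hW : IsAffineOpen W, rfl⟩, hxW, -⟩ :=
    X.isBasis_affineOpens.exists_subset_of_mem_open (Set.mem_univ x) isOpen_univ
  exact ⟨W, hW, hxW, pdLT_X₂ (S := ShortComplex.mk i p w) hS (isCoh_of_isFinLocFree h').1 hW 1
    (pdLT_one_of_isFinLocFree h' hW) (pdLT_one_of_isFinLocFree h'' hW)⟩

lemma isFinLocFree_of_ses_ker [IsLocallyNoetherian X] {K L A : X.Modules} (hs : SES K L A)
    (hL : FlatMod.IsFinLocFree L) (hA : FlatMod.IsFinLocFree A) : FlatMod.IsFinLocFree K := by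
  have hK : Coh.IsCoh K := isCoh_of_ses_ker hs (isCoh_of_isFinLocFree hL) (isCoh_of_isFinLocFree hA)
  obtain ⟨i, p, w, hS⟩ := hs
  refine isFinLocFree_of_pdLT_one hK fun x => ?_
  obtain ⟨_, ⟨W, hW : IsAffineOpen W, rfl⟩, hxW, -⟩ :=
    X.isBasis_affineOpens.exists_subset_of_mem_open (Set.mem_univ x) isOpen_univ
  exact ⟨W, hW, hxW, pdLT_X₁ (S := ShortComplex.mk i p w) hS hK.1 hW 1
    (pdLT_one_of_isFinLocFree hL hW) ((pdLT_one_of_isFinLocFree hA hW).mono (by omega))⟩

/-- the hypotheses of the resolution theorem for finite locally free inside coherent -/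
theorem hyp_vb_coh [IsLocallyNoetherian X] (hX : KRR.HasEnoughLocFree X) :
    Hyp (KRR.vbP X) (cohP X) where
  le _ h := isCoh_of_isFinLocFree h
  ext₀ hs h' h'' := isFinLocFree_of_ses_ext hs h' h''
  ext₁ hs h' h'' := isCoh_of_ses_ext hs h' h''
  ker₀ hs hL hA := isFinLocFree_of_ses_ker hs hL hA
  ker₁ hs hL hA := isCoh_of_ses_ker hs hL hA
  cover A hA := by
    obtain ⟨E, p, hE, hp⟩ := hX A hA
    exact ⟨kernel p, E, ses_kernel p, hE⟩

end LFRes

end Groth.Agent.Lib.Helper16
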