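import Groth.Agent.Lib.Helper16.LFRes.Main
import Groth.Agent.Lib.Helper35.RegPerf2

/-!
# Coherent modules on a regular Noetherian scheme have finite level (helper16)

Consequence: `K₀(vb) ≃ K₀(Coh)` on a regular Noetherian scheme with enough locally free modules.
-/

set_option autoImplicit false
set_option linter.unusedSectionVars false
universe u

namespace Groth.Agent.Lib.Helper16

namespace LFRes

open AlgebraicGeometry CategoryTheory CategoryTheory.Limits Groth.Agent.Lib ResK0 CohThick

variable {X : Scheme.{u}}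

/-- the level is bounded by the projective dimension of sections over an affine open cover -/
theorem U_of_pdLT_cover [IsLocallyNoetherian X] (_hX : KRR.HasEnoughLocFree X) :
    ∀ (n : ℕ) (A : X.Modules), Coh.IsCoh A →
      (∀ x : X, ∃ V : X.Opens, IsAffineOpen V ∧ x ∈ V ∧ PdLT A (n + 1) V) →
      U (KRR.vbP X) (cohP X) n A := by
  intro n
  induction n with
  | zero =>
    intro A hA h
    exact isFinLocFree_of_pdLT_one hA h
  | succ n ih =>
    intro A hA h
    refine ⟨hA, fun K L hs hL => ?_⟩
    have hK : Coh.IsCoh K := isCoh_of_ses_ker hs (isCoh_of_isFinLocFree hL) hA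
    refine ih K hK fun x => ?_
    obtain ⟨V, hV, hxV, hp⟩ := h x
    obtain ⟨i, p, w, hS⟩ := hs
    exact ⟨V, hV, hxV, pdLT_X₁ (S := ShortComplex.mk i p w) hS hK.1 hV (n + 1)
      ((pdLT_one_of_isFinLocFree hL hV).mono (by omega)) hp⟩

/-- the ring of sections of a scheme with regular local rings over an affine open is regular -/
lemma isRegularLocalRing_localization_sections
    (hreg : ∀ x : X, IsRegularLocalRing (X.presheaf.stalk x)) {V : X.Opens} (hV : IsAffineOpen V)
    (p : PrimeSpectrum Γ(X, V)) : IsRegularLocalRing (Localization.AtPrime p.asIdeal) := by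
  have hy : hV.fromSpec p ∈ V := (hV.isoSpec.inv p).2
  let := TopCat.Presheaf.algebra_section_stalk X.presheaf ⟨hV.fromSpec p, hy⟩
  have hloc : IsLocalization.AtPrime (X.presheaf.stalk (hV.fromSpec p)) p.asIdeal :=
    hV.isLocalization_stalk' p hy
  have := hreg (hV.fromSpec p)
  exact IsRegularLocalRing.of_ringEquiv
    (IsLocalization.algEquiv p.asIdeal.primeCompl (X.presheaf.stalk (hV.fromSpec p))
      (Localization.AtPrime p.asIdeal)).toRingEquiv

/-- finite projective dimension of the sections of a coherent module over an affine open of a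
regular locally Noetherian scheme -/
lemma exists_pdLT_of_regular [IsLocallyNoetherian X]
    (hreg : ∀ x : X, IsRegularLocalRing (X.presheaf.stalk x)) (A : X.Modules) (hA : Coh.IsCoh A)
    {V : X.Opens} (hV : IsAffineOpen V) : ∃ d : ℕ, PdLT A (d + 1) V := by
  have := hA.1
  have : IsNoetherianRing Γ(X, V) := IsLocallyNoetherian.component_noetherian ⟨V, hV⟩
  have hfin : Module.Finite Γ(X, V) Γ(A, V) := Helper49.finite_sections_of_isFiniteType A hA.2 hV
  have hfin' : Module.Finite Γ(X, V) (secObj A V) := hfin
  obtain ⟨d, hd⟩ := Helper35.KL.exists_projective_Syz (secObj A V)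
    (fun p => isRegularLocalRing_localization_sections hreg hV p)
  refine ⟨d, ?_⟩
  have h1 : HasProjectiveDimensionLT (Helper35.KL.Syz (secObj A V) (0 + d)) 1 := by
    rw [zero_add, ← projective_iff_hasProjectiveDimensionLT_one, ← IsProjective.iff_projective]
    exact hd
  exact Helper35.KL.pdLT_of_pdLT_Syz _ d 0 h1

/-- on a regular Noetherian scheme with enough locally free modules every coherent module has
finite level -/
theorem exists_U_of_regular [IsNoetherian X] (hX : KRR.HasEnoughLocFree X)
    (hreg : ∀ x : X, IsRegularLocalRing (X.presheaf.stalk x)) (A : X.Modules) (hA : Coh.IsCoh A) :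
    ∃ n, U (KRR.vbP X) (cohP X) n A := by
  -- choose an affine open neighbourhood of every point and a bound over it
  have hex : ∀ x : X, ∃ (V : X.Opens) (d : ℕ), IsAffineOpen V ∧ x ∈ V ∧ PdLT A (d + 1) V := by
    intro x
    obtain ⟨_, ⟨W, hW : IsAffineOpen W, rfl⟩, hxW, -⟩ :=
      X.isBasis_affineOpens.exists_subset_of_mem_open (Set.mem_univ x) isOpen_univ
    obtain ⟨d, hd⟩ := exists_pdLT_of_regular hreg A hA hW
    exact ⟨W, d, hW, hxW, hd⟩
  choose V d hV hxV hd using hex
  let W : ℕ → Set X := fun n => ⋃ (x : X) (_ : d x ≤ n), (V x : Set X)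
  have hWopen : ∀ n, IsOpen (W n) := fun n =>
    isOpen_iUnion fun x => isOpen_iUnion fun _ => (V x).2
  have hWmono : Monotone W := by
    intro n m hnm y hy
    simp only [W, Set.mem_iUnion] at hy ⊢
    obtain ⟨x, hx, hy⟩ := hy
    exact ⟨x, le_trans hx hnm, hy⟩
  obtain ⟨n, hn⟩ := isCompact_univ.elim_directed_cover W hWopen
    (fun y _ => Set.mem_iUnion.mpr ⟨d y, by
      simp only [W, Set.mem_iUnion]
      exact ⟨y, le_refl _, hxV y⟩⟩)
    (directed_of_isDirected_le hWmono)
  refine ⟨n, U_of_pdLT_cover hX n A hA fun y => ?_⟩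
  have hy := hn (Set.mem_univ y)
  simp only [W, Set.mem_iUnion] at hy
  obtain ⟨x, hx, hy⟩ := hy
  exact ⟨V x, hV x, hy, (hd x).mono (by omega)⟩

/-- `K₀(vb) ⟶ K₀(Coh)` is bijective on a regular Noetherian scheme with enough locally free
modules -/
theorem bijective_regular [IsNoetherian X] (hX : KRR.HasEnoughLocFree X)
    (hreg : ∀ x : X, IsRegularLocalRing (X.presheaf.stalk x))
    (h : ∀ M : X.Modules, FlatMod.IsFinLocFree M → Coh.IsCoh M) :
    Function.Bijective (SGA6.mapSub (𝟭 X.Modules) (KRR.vbP X)
      (fun M : X.Modules => Coh.IsCoh M) h) := by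
  have H := hyp_vb_coh hX
  have steps : ∀ n, Step (U (KRR.vbP X) (cohP X) n) (U (KRR.vbP X) (cohP X) (n + 1)) :=
    fun n =>
      { le := fun X h => U_succ H n h
        ext := (good H n).1
        cover := fun A hA => by
          obtain ⟨K, L, hs, hL⟩ := H.cover A hA.1
          exact ⟨K, L, hs, U_zero_of H hL n⟩
        ker := fun hs hL hA => U_ker_succ H (good H n) hs hL hA }
  exact Union.bijective (U (KRR.vbP X) (cohP X))
    (fun M : X.Modules => Coh.IsCoh M)
    (fun n X h => U_succ H n h)
    (fun n => (steps n).bijective)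
    (fun n A hA => U_sub H n hA)
    (fun A hA => exists_U_of_regular hX hreg A hA)

end LFRes

end Groth.Agent.Lib.Helper16
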