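import Groth.Agent.Lib.Helper16.ResK0.Resolution

/-!
# Resolutions built from a system of covers, and finiteness from the level (helper16)

Given a choice of epimorphism `cs.π X : cs.obj X ⟶ X` for every object `X` of an abelian category,
`res cs A` is the resolution of `A` obtained by iterating covers of kernels, with augmentation
`resπ cs A`.  If the covers are by objects of `P₀` on `P₁` and are isomorphisms on `P₀`, and `A` has
level `≤ n` (`ResK0.U P₀ P₁ n A`), the resolution vanishes above degree `n`.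
-/

set_option autoImplicit false
set_option linter.style.haveILetI false
set_option linter.unusedSectionVars false
universe v u

namespace Groth.Agent.Lib.Helper16

namespace LFRes

open CategoryTheory CategoryTheory.Limits ResK0

variable {C : Type u} [Category.{v} C] [Abelian C]

/-- a choice of epimorphic cover of every object -/
structure CovSys (C : Type u) [Category.{v} C] where
  obj : C → C
  π : ∀ X, obj X ⟶ X
  epi : ∀ X, Epi (π X)

variable (cs : CovSys C)

instance (X : C) : Epi (cs.π X) := cs.epi X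

/-- the next differential -/
noncomputable def dd {X Y : C} (f : X ⟶ Y) : cs.obj (kernel f) ⟶ X :=
  cs.π (kernel f) ≫ kernel.ι f

lemma dd_comp {X Y : C} (f : X ⟶ Y) : dd cs f ≫ f = 0 := by
  simp [dd]

lemma exact_dd {X Y : C} (f : X ⟶ Y) : (ShortComplex.mk (dd cs f) f (dd_comp cs f)).Exact := by
  let α : ShortComplex.mk (dd cs f) f (dd_comp cs f) ⟶ ShortComplex.mk (kernel.ι f) f (by simp) :=
    { τ₁ := cs.π _
      τ₂ := 𝟙 _
      τ₃ := 𝟙 _
      comm₁₂ := by simp [dd]
      comm₂₃ := by simp }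
  have : Epi α.τ₁ := by dsimp [α]; infer_instance
  have : IsIso α.τ₂ := by dsimp [α]; infer_instance
  have : Mono α.τ₃ := by dsimp [α]; infer_instance
  rw [ShortComplex.exact_iff_of_epi_of_isIso_of_mono α]
  apply ShortComplex.exact_of_f_is_kernel
  apply kernelIsKernel

/-- the segments of the resolution -/
noncomputable def seg (A : C) : ℕ → Seg C
  | 0 => ⟨cs.obj (kernel (cs.π A)), cs.obj A, dd cs (cs.π A)⟩
  | n + 1 => ⟨cs.obj (kernel (seg A n).d), (seg A n).X₁, dd cs (seg A n).d⟩

/-- the resolution -/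
noncomputable def res (A : C) : ChainComplex C ℕ :=
  ChainComplex.of (fun n => (seg cs A n).X₀) (fun n => (seg cs A n).d) (fun n => dd_comp cs _)

lemma res_d_succ (A : C) (n : ℕ) :
    (res cs A).d (n + 1 + 1) (n + 1) = dd cs (seg cs A n).d :=
  ChainComplex.of_d (fun n => (seg cs A n).X₀) (fun n => (seg cs A n).d) (n + 1)

lemma res_d (A : C) (n : ℕ) : (res cs A).d (n + 1) n = (seg cs A n).d :=
  ChainComplex.of_d (fun n => (seg cs A n).X₀) (fun n => (seg cs A n).d) n

lemma res_exactAt (A : C) (n : ℕ) : (res cs A).ExactAt (n + 1) := by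
  rw [HomologicalComplex.exactAt_iff' _ (n + 1 + 1) (n + 1) n (by simp) (by simp)]
  exact exact_of_eq _ _ (res_d_succ cs A n) (res_d cs A n) (exact_dd cs (seg cs A n).d)

lemma res_d_one_zero (A : C) : (res cs A).d 1 0 = dd cs (cs.π A) :=
  ChainComplex.of_d (fun n => (seg cs A n).X₀) (fun n => (seg cs A n).d) 0

/-- the augmentation map in degree `0` -/
noncomputable def aug (A : C) : (res cs A).X 0 ⟶ A := cs.π A

lemma res_d_comp_π (A : C) : (res cs A).d 1 0 ≫ aug cs A = 0 := by
  rw [res_d_one_zero]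
  exact dd_comp cs _

/-- the augmentation of the resolution -/
noncomputable def resπ (A : C) : res cs A ⟶ (ChainComplex.single₀ C).obj A :=
  (ChainComplex.toSingle₀Equiv (res cs A) A).symm ⟨aug cs A, res_d_comp_π cs A⟩

lemma resπ_f_zero (A : C) : (resπ cs A).f 0 = aug cs A :=
  ChainComplex.toSingle₀Equiv_symm_apply_f_zero (aug cs A) (res_d_comp_π cs A)

set_option backward.defeqAttrib.useBackward true in
set_option backward.isDefEq.respectTransparency false in
instance quasiIso_resπ (A : C) : QuasiIso (resπ cs A) := ⟨fun n => by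
  cases n
  · rw [ChainComplex.quasiIsoAt₀_iff, ShortComplex.quasiIso_iff_of_zeros']
    · dsimp
      refine (ShortComplex.exact_and_epi_g_iff_of_iso ?_).2
        ⟨exact_dd cs (cs.π A), by dsimp; infer_instance⟩
      exact ShortComplex.isoMk (Iso.refl _) (Iso.refl _) (Iso.refl _)
        (by simp [res_d_one_zero]) (by simp [resπ_f_zero, aug])
    all_goals rfl
  · rw [quasiIsoAt_iff_exactAt']
    · apply res_exactAt
    · apply ChainComplex.exactAt_succ_single_obj⟩

/-- the syzygies of the resolution -/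
noncomputable def syz (A : C) : ℕ → C
  | 0 => kernel (cs.π A)
  | n + 1 => kernel (seg cs A n).d

lemma res_X_zero (A : C) : (res cs A).X 0 = cs.obj A := rfl

lemma seg_X₁ (A : C) : ∀ n, (seg cs A n).X₁ = cs.obj (syz cs A n)
  | 0 => rfl
  | _ + 1 => rfl

lemma res_X_succ (A : C) (n : ℕ) : (res cs A).X (n + 1) = cs.obj (syz cs A n) := by
  change (seg cs A (n + 1)).X₀ = _
  exact seg_X₁ cs A n

lemma ses_syz_zero (A : C) : SES (syz cs A 0) (cs.obj A) A := ses_kernel (cs.π A)

lemma ses_syz_succ (A : C) : ∀ n, SES (syz cs A (n + 1)) (cs.obj (syz cs A n)) (syz cs A n)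
  | 0 => ses_kernel_comp_mono (cs.π (kernel (cs.π A))) (kernel.ι (cs.π A))
  | n + 1 => ses_kernel_comp_mono (cs.π (kernel (seg cs A n).d)) (kernel.ι (seg cs A n).d)

section Finite

variable {P₀ P₁ : ObjectProperty C} (H : Hyp P₀ P₁)
  (h0 : ∀ Z : C, IsZero Z → P₀ Z)
  (hcs₁ : ∀ X : C, P₁ X → P₀ (cs.obj X))
  (hcs₀ : ∀ X : C, P₀ X → IsIso (cs.π X))

include H hcs₁ in
/-- passing to the kernel of the chosen cover lowers the level -/
lemma U_pred_kernel {A K : C} (hs : SES K (cs.obj A) A) (n : ℕ) (hA : U P₀ P₁ n A) :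
    U P₀ P₁ (n - 1) K := by
  cases n with
  | zero => exact H.ker₀ hs (hcs₁ A (H.le A hA)) hA
  | succ n => exact hA.2 K (cs.obj A) hs (hcs₁ A hA.1)

include H hcs₁ in
lemma U_syz {A : C} (n : ℕ) (hA : U P₀ P₁ n A) : ∀ i, U P₀ P₁ (n - (i + 1)) (syz cs A i)
  | 0 => U_pred_kernel cs H hcs₁ (ses_syz_zero cs A) n hA
  | i + 1 => by
    have h := U_pred_kernel cs H hcs₁ (ses_syz_succ cs A i) _ (U_syz n hA i)
    have e : n - (i + 1) - 1 = n - (i + 1 + 1) := by omega
    rw [e] at h
    exact h

include hcs₀ in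
lemma isZero_kernel_π {X : C} (hX : P₀ X) : IsZero (kernel (cs.π X)) := by
  have := hcs₀ X hX
  exact isZero_kernel_of_mono _

include hcs₀ in
lemma isZero_syz_succ {A : C} (i : ℕ) (hi : P₀ (syz cs A i)) : IsZero (syz cs A (i + 1)) := by
  have := hcs₀ _ hi
  cases i with
  | zero =>
    change IsZero (kernel (cs.π (kernel (cs.π A)) ≫ kernel.ι (cs.π A)))
    have : IsIso (cs.π (kernel (cs.π A))) := this
    exact isZero_kernel_of_mono _
  | succ i =>
    change IsZero (kernel (cs.π (kernel (seg cs A i).d) ≫ kernel.ι (seg cs A i).d))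
    have : IsIso (cs.π (kernel (seg cs A i).d)) := this
    exact isZero_kernel_of_mono _

include H h0 hcs₁ hcs₀ in
lemma isZero_syz {A : C} (n : ℕ) (hA : U P₀ P₁ n A) : ∀ i, n ≤ i → IsZero (syz cs A i) := by
  intro i hi
  induction i, hi using Nat.le_induction with
  | base =>
    cases n with
    | zero => exact isZero_kernel_π cs hcs₀ hA
    | succ n =>
      have h := U_syz cs H hcs₁ (n + 1) hA n
      rw [Nat.sub_self] at h
      exact isZero_syz_succ cs hcs₀ n h
  | succ i _ ih => exact isZero_syz_succ cs hcs₀ i (h0 _ ih)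

include H hcs₁ in
lemma prop_res_X {A : C} (n : ℕ) (hA : U P₀ P₁ n A) : ∀ i, P₀ ((res cs A).X i)
  | 0 => hcs₁ A (U_sub H n hA)
  | i + 1 => by
    rw [res_X_succ]
    exact hcs₁ _ (U_sub H _ (U_syz cs H hcs₁ n hA i))

include H h0 hcs₁ hcs₀ in
lemma isZero_res_X {A : C} (n : ℕ) (hA : U P₀ P₁ n A) (i : ℕ) (hi : n < i) :
    IsZero ((res cs A).X i) := by
  obtain ⟨j, rfl⟩ : ∃ j, i = j + 1 := ⟨i - 1, by omega⟩
  rw [res_X_succ]
  have hz := isZero_syz cs H h0 hcs₁ hcs₀ n hA j (by omega)
  have := hcs₀ _ (h0 _ hz)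
  exact IsZero.of_iso hz (asIso (cs.π (syz cs A j)))

end Finite

end LFRes

end Groth.Agent.Lib.Helper16
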