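import Groth.Agent.Lib.Helper16.LFRes.LFHyp
import Groth.Agent.Lib.Helper16.LFRes.CovRes
import Groth.Agent.Lib.Helper16.ResK0.Union
import Groth.Agent.Lib.Helper49.FinLocFreeRetract

/-!
# Finite resolutions by finite locally free modules and the level (helper16)

On a locally Noetherian scheme with enough locally free modules, a coherent module admits a finite
resolution by finite locally free modules iff it has finite level for the pair
(finite locally free ≤ coherent); consequence: `K₀(vb) ≃ K₀(coherent with finite lf resolution)`.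
-/

set_option autoImplicit false
set_option linter.unusedSectionVars false
universe u

namespace Groth.Agent.Lib.Helper16

namespace LFRes

open AlgebraicGeometry CategoryTheory CategoryTheory.Limits Groth.Agent.Lib ResK0 CohThick

variable {X : Scheme.{u}}

lemma isFinLocFree_of_isZero {Z : X.Modules} (hZ : IsZero Z) : FlatMod.IsFinLocFree Z :=
  Helper49.isFinLocFree_of_retract (0 : Z ⟶ FlatMod.freeMod X 0) 0 (hZ.eq_of_src _ _)
    (Helper49.isFinLocFree_freeMod X 0)

lemma exists_cov (hX : KRR.HasEnoughLocFree X) (A : X.Modules) :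
    ∃ (L : X.Modules) (p : L ⟶ A), Epi p ∧ (Coh.IsCoh A → FlatMod.IsFinLocFree L) ∧
      (FlatMod.IsFinLocFree A → IsIso p) := by
  by_cases h : FlatMod.IsFinLocFree A
  · exact ⟨A, 𝟙 A, inferInstance, fun _ => h, fun _ => inferInstance⟩
  · by_cases h' : Coh.IsCoh A
    · obtain ⟨E, p, hE, hp⟩ := hX A h'
      exact ⟨E, p, hp, fun _ => hE, fun h'' => absurd h'' h⟩
    · exact ⟨A, 𝟙 A, inferInstance, fun h'' => absurd h'' h', fun _ => inferInstance⟩

/-- the system of covers by finite locally free modules (identity on finite locally free ones) -/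
noncomputable def covSys (hX : KRR.HasEnoughLocFree X) : CovSys X.Modules where
  obj A := (exists_cov hX A).choose
  π A := (exists_cov hX A).choose_spec.choose
  epi A := (exists_cov hX A).choose_spec.choose_spec.1

lemma covSys_obj (hX : KRR.HasEnoughLocFree X) (A : X.Modules) (hA : Coh.IsCoh A) :
    FlatMod.IsFinLocFree ((covSys hX).obj A) :=
  (exists_cov hX A).choose_spec.choose_spec.2.1 hA

lemma covSys_iso (hX : KRR.HasEnoughLocFree X) (A : X.Modules) (hA : FlatMod.IsFinLocFree A) :
    IsIso ((covSys hX).π A) :=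
  (exists_cov hX A).choose_spec.choose_spec.2.2 hA

section

variable [IsLocallyNoetherian X] (hX : KRR.HasEnoughLocFree X)

include hX

/-- finite level implies a finite resolution by finite locally free modules -/
theorem hasLFRes_of_U (n : ℕ) (A : X.Modules) (hA : U (KRR.vbP X) (cohP X) n A) :
    KRR.HasLFRes A := by
  have H := hyp_vb_coh hX
  refine ⟨n, res (covSys hX) A, resπ (covSys hX) A, ⟨?_, ?_, inferInstance⟩⟩
  · exact prop_res_X (covSys hX) H (covSys_obj hX) n hA
  · exact isZero_res_X (covSys hX) H (fun Z hZ => isFinLocFree_of_isZero hZ) (covSys_obj hX)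
      (covSys_iso hX) n hA

/-- a finite resolution by finite locally free modules implies finite level -/
theorem exists_U_of_hasLFRes (A : X.Modules) (hA : Coh.IsCoh A) (hres : KRR.HasLFRes A) :
    ∃ n, U (KRR.vbP X) (cohP X) n A := by
  have H := hyp_vb_coh hX
  obtain ⟨n, L, π, hL⟩ := hres
  have := hL.quasiIso
  have hex : ∀ i, 1 ≤ i → L.ExactAt i := by
    intro i hi
    obtain ⟨j, rfl⟩ := Nat.exists_eq_add_of_le' hi
    exact (quasiIsoAt_iff_exactAt' π (j + 1) (ChainComplex.exactAt_succ_single_obj A j)).1
      inferInstance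
  have e : L.homology 0 ≅ A :=
    isoOfQuasiIsoAt π 0 ≪≫ HomologicalComplex.singleObjHomologySelfIso (ComplexShape.down ℕ) 0 A
  have hz : IsZero (L.cycles (n + 1)) := IsZero.of_mono (L.iCycles (n + 1)) (hL.isZero _ (by omega))
  exact exists_level_of_resolution L H (A := A) hA hL.finLocFree hex e n
    (isFinLocFree_of_isZero hz)

/-- `K₀(vb) ⟶ K₀(coherent modules with a finite locally free resolution)` is bijective -/
theorem bijective_resolvable
    (h : ∀ M : X.Modules, FlatMod.IsFinLocFree M → Coh.IsCoh M ∧ KRR.HasLFRes M) :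
    Function.Bijective (SGA6.mapSub (𝟭 X.Modules) (KRR.vbP X)
      (fun M : X.Modules => Coh.IsCoh M ∧ KRR.HasLFRes M) h) := by
  have H := hyp_vb_coh hX
  have steps : ∀ n, Step (U (KRR.vbP X) (cohP X) n) (U (KRR.vbP X) (cohP X) (n + 1)) :=
    fun n =>
      { le := fun X h => U_succ H n h
        ext := (good H n).1
        cover := fun A hA => by
          obtain ⟨K, L, hs, hL⟩ := H.cover A hA.1
          exact ⟨K, L, hs, U_zero_of H hL n⟩
        ker := fun hs hL hA => U_ker_succ H (good H n) hs hL hA }
  exact Union.bijective (U (KRR.vbP X) (cohP X))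
    (fun M : X.Modules => Coh.IsCoh M ∧ KRR.HasLFRes M)
    (fun n X h => U_succ H n h)
    (fun n => (steps n).bijective)
    (fun n A hA => ⟨U_sub H n hA, hasLFRes_of_U hX n A hA⟩)
    (fun A hA => exists_U_of_hasLFRes hX A hA.1 hA.2)

end

end LFRes

end Groth.Agent.Lib.Helper16
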